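import Groth.Agent.Lib.OX.Stalk
import Groth.Prelude.Def_Omega3
import Mathlib.RingTheory.Kaehler.Basic

/-!
# Stalks of a sheaf with a universal derivation

For any morphism `f : X ⟶ Y` and any universal `Y`-derivation `d : O_X → Ω`, the stalk of `Ω` at `x` is
`Ω[O_{X,x}⁄O_{Y,f x}]`, with the germ of `d s` going to `D (germ s)`.
-/

set_option autoImplicit false
set_option linter.style.haveILetI false
set_option backward.isDefEq.respectTransparency false
universe u

open CategoryTheory AlgebraicGeometry Opposite TopologicalSpace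

noncomputable section

namespace GrothLib.OmegaUniv

variable {X Y : Scheme.{u}} (f : X ⟶ Y) (x : X)

/-- `O_{X,x}` as an algebra over `O_{Y,f x}`. -/
@[reducible] def stalkAlg : Algebra (Y.presheaf.stalk (f x)) (X.presheaf.stalk x) :=
  (f.stalkMap x).hom.toAlgebra

attribute [local instance] stalkAlg

/-- The algebraic differentials of the local ring. -/
abbrev Kah : Type u := Ω[X.presheaf.stalk x⁄Y.presheaf.stalk (f x)]

/-- The differential of a germ. -/
def dGerm : X.presheaf.stalk x →+ Kah f x :=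
  (KaehlerDifferential.D (Y.presheaf.stalk (f x)) (X.presheaf.stalk x)).toLinearMap.toAddMonoidHom

/-- The derivation into the skyscraper of the algebraic differentials. -/
def skyDer : OmegaSh.Der f (OX.skyObj x (ModuleCat.of (X.presheaf.stalk x) (Kah f x))) where
  d {U} := AddMonoidHom.mk'
    (fun s => (fun h => dGerm f x (X.presheaf.germ U.unop x h.down s) :
      OX.SkySec x (ModuleCat.of (X.presheaf.stalk x) (Kah f x)) U))
    (fun a b => funext fun h => by
      show dGerm f x _ = dGerm f x _ + dGerm f x _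
      rw [map_add, map_add])
  d_mul {U} a b := funext fun h => by
    show dGerm f x (X.presheaf.germ U.unop x h.down (a * b)) = X.presheaf.germ U.unop x h.down a •
      dGerm f x (X.presheaf.germ U.unop x h.down b) + X.presheaf.germ U.unop x h.down b •
      dGerm f x (X.presheaf.germ U.unop x h.down a)
    rw [map_mul]
    exact (KaehlerDifferential.D (Y.presheaf.stalk (f x)) (X.presheaf.stalk x)).leibniz _ _
  d_map {U V} i s := funext fun h => by
    show dGerm f x (X.presheaf.germ V.unop x h.down (X.presheaf.map i s)) = dGerm f x _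
    rw [TopCat.Presheaf.germ_res_apply' X.presheaf i x h.down s]
  d_app {V} c := funext fun h => by
    show dGerm f x (X.presheaf.germ (f ⁻¹ᵁ V.unop) x h.down (f.app V.unop c)) = 0
    rw [← CommRingCat.comp_apply, ← f.germ_stalkMap V.unop x h.down, CommRingCat.comp_apply]
    exact (KaehlerDifferential.D (Y.presheaf.stalk (f x)) (X.presheaf.stalk x)).map_algebraMap _

variable {f} {Ω : X.Modules} {d : OmegaSh.Der f Ω}

/-- The stalk of `Ω`. -/
abbrev St (Ω : X.Modules) : Type u := OX.stalkObj x (DCoh.toP.obj Ω)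

variable {x} in
/-- The germ of a differential. -/
def dg (d : OmegaSh.Der f Ω) (U : X.Opens) (hx : x ∈ U) (s : Γ(X, U)) : St x Ω :=
  OX.germ (DCoh.toP.obj Ω) U hx (d.app U s)

theorem dg_map (d : OmegaSh.Der f Ω) {U V : X.Opens} (i : V ⟶ U) (hx : x ∈ V) (s : Γ(X, U)) :
    dg d V hx (X.presheaf.map i.op s) = dg d U (i.le hx) s :=
  (congrArg (OX.germ (DCoh.toP.obj Ω) V hx) (d.d_map i.op s)).trans (OX.germ_map (DCoh.toP.obj Ω) i hx _)

theorem dg_eq_of_germ_eq (d : OmegaSh.Der f Ω) {U V : X.Opens} (hU : x ∈ U) (hV : x ∈ V) (s : Γ(X, U))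
    (t : Γ(X, V)) (h : X.presheaf.germ U x hU s = X.presheaf.germ V x hV t) : dg d U hU s = dg d V hV t := by
  obtain ⟨W, hW, iU, iV, e⟩ := X.presheaf.germ_eq x hU hV s t h
  rw [← dg_map x d iU hW s, ← dg_map x d iV hW t]
  exact congrArg (dg d W hW) e

/-- The derivation induced on the stalk, as a function. -/
def stalkD (d : OmegaSh.Der f Ω) (b : X.presheaf.stalk x) : St x Ω :=
  dg d (X.presheaf.exists_germ_eq b).choose (X.presheaf.exists_germ_eq b).choose_spec.choose
    (X.presheaf.exists_germ_eq b).choose_spec.choose_spec.choose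

theorem stalkD_germ (d : OmegaSh.Der f Ω) (U : X.Opens) (hx : x ∈ U) (s : Γ(X, U)) :
    stalkD x d (X.presheaf.germ U x hx s) = dg d U hx s :=
  dg_eq_of_germ_eq x d _ _ _ _ (X.presheaf.exists_germ_eq (X.presheaf.germ U x hx s)).choose_spec.choose_spec.choose_spec

theorem stalkD_leibniz (d : OmegaSh.Der f Ω) (a b : X.presheaf.stalk x) :
    stalkD x d (a * b) = a • stalkD x d b + b • stalkD x d a ∧ stalkD x d (a + b) = stalkD x d a + stalkD x d b := by
  obtain ⟨U, hU, s, rfl⟩ := X.presheaf.exists_germ_eq a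
  obtain ⟨V, hV, t, rfl⟩ := X.presheaf.exists_germ_eq b
  rw [← X.presheaf.germ_res_apply (homOfLE (inf_le_left : U ⊓ V ≤ U)) x ⟨hU, hV⟩ s,
    ← X.presheaf.germ_res_apply (homOfLE (inf_le_right : U ⊓ V ≤ V)) x ⟨hU, hV⟩ t, ← map_mul, ← map_add,
    stalkD_germ, stalkD_germ, stalkD_germ, stalkD_germ]
  refine ⟨?_, ?_⟩
  · refine (congrArg (OX.germ (DCoh.toP.obj Ω) (U ⊓ V) ⟨hU, hV⟩) (d.d_mul _ _)).trans ?_
    refine (map_add _ _ _).trans ?_
    exact congrArg₂ (· + ·) (OX.germ_smul' (DCoh.toP.obj Ω) _ _ _ _) (OX.germ_smul' (DCoh.toP.obj Ω) _ _ _ _)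
  · exact (congrArg (OX.germ (DCoh.toP.obj Ω) (U ⊓ V) ⟨hU, hV⟩) (map_add (d.app (U ⊓ V)) _ _)).trans (map_add _ _ _)

theorem stalkD_algebraMap (d : OmegaSh.Der f Ω) (a : Y.presheaf.stalk (f x)) :
    stalkD x d (algebraMap _ (X.presheaf.stalk x) a) = 0 := by
  obtain ⟨V, hV, c, rfl⟩ := Y.presheaf.exists_germ_eq a
  show stalkD x d ((f.stalkMap x).hom (Y.presheaf.germ V (f x) hV c)) = 0
  rw [← CommRingCat.comp_apply, f.germ_stalkMap V x hV, CommRingCat.comp_apply, stalkD_germ]
  exact (congrArg (OX.germ (DCoh.toP.obj Ω) (f ⁻¹ᵁ V) hV) (d.d_app c)).trans (map_zero _)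

instance : Module (Y.presheaf.stalk (f x)) (St x Ω) :=
  Module.compHom _ (algebraMap (Y.presheaf.stalk (f x)) (X.presheaf.stalk x))

instance : IsScalarTower (Y.presheaf.stalk (f x)) (X.presheaf.stalk x) (St x Ω) :=
  IsScalarTower.of_algebraMap_smul fun _ _ => rfl

/-- The derivation of the local ring into the stalk. -/
def stalkDer (d : OmegaSh.Der f Ω) :
    Derivation (Y.presheaf.stalk (f x)) (X.presheaf.stalk x) (St x Ω) :=
  Derivation.mk'
    { toFun := stalkD x d
      map_add' := fun a b => (stalkD_leibniz x d a b).2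
      map_smul' := fun a b => by
        rw [Algebra.smul_def, (stalkD_leibniz x d _ b).1, stalkD_algebraMap, smul_zero, add_zero,
          algebraMap_smul]
        rfl }
    (fun a b => (stalkD_leibniz x d a b).1)

/-- The map from algebraic differentials to the stalk. -/
def fromKaehler (d : OmegaSh.Der f Ω) : Kah f x →ₗ[X.presheaf.stalk x] St x Ω :=
  (stalkDer x d).liftKaehlerDifferential

theorem fromKaehler_D (d : OmegaSh.Der f Ω) (U : X.Opens) (hx : x ∈ U) (s : Γ(X, U)) :
    fromKaehler x d (KaehlerDifferential.D _ _ (X.presheaf.germ U x hx s)) = dg d U hx s :=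
  ((stalkDer x d).liftKaehlerDifferential_comp_D _).trans (stalkD_germ x d U hx s)

/-- The universal map into the skyscraper. -/
def skyLift (hd : OmegaSh.IsUniversal d) : Ω ⟶ OX.skyObj x (ModuleCat.of (X.presheaf.stalk x) (Kah f x)) :=
  (hd _ (skyDer f x)).choose

/-- The map from the stalk to algebraic differentials. -/
def toKaehler (hd : OmegaSh.IsUniversal d) : St x Ω →ₗ[X.presheaf.stalk x] Kah f x :=
  ((OX.stalkHomEquiv x (DCoh.toP.obj Ω) _).symm (DCoh.toP.map (skyLift x hd))).hom

theorem toKaehler_dg (hd : OmegaSh.IsUniversal d) (U : X.Opens) (hx : x ∈ U) (s : Γ(X, U)) :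
    toKaehler x hd (dg d U hx s) = KaehlerDifferential.D _ _ (X.presheaf.germ U x hx s) := by
  refine (OX.stalkDesc_germ _ U hx _).trans ?_
  exact congrFun (PresheafOfModules.Derivation.congr_d (hd _ (skyDer f x)).choose_spec.1 (X := op U) s) ⟨hx⟩

theorem hom_ext_sky {M : X.Modules} {N : ModuleCat.{u} (X.presheaf.stalk x)}
    {a b : St x M →ₗ[X.presheaf.stalk x] N}
    (h : (OX.stalkHomEquiv x (DCoh.toP.obj M) N) (ModuleCat.ofHom a) =
      (OX.stalkHomEquiv x (DCoh.toP.obj M) N) (ModuleCat.ofHom b)) : a = b :=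
  congrArg ModuleCat.Hom.hom ((OX.stalkHomEquiv x (DCoh.toP.obj M) N).injective h)

/-- The stalk is spanned by germs of differentials. -/
theorem eq_top_of_dg_mem (hd : OmegaSh.IsUniversal d) (S : Submodule (X.presheaf.stalk x) (St x Ω))
    (h : ∀ (U : X.Opens) (hx : x ∈ U) (s : Γ(X, U)), dg d U hx s ∈ S) : S = ⊤ := by
  let N : ModuleCat.{u} (X.presheaf.stalk x) := ModuleCat.of _ (St x Ω ⧸ S)
  let q : St x Ω →ₗ[X.presheaf.stalk x] N := S.mkQ
  let α : Ω ⟶ OX.skyObj x N := ⟨(OX.stalkHomEquiv x (DCoh.toP.obj Ω) N) (ModuleCat.ofHom q)⟩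
  let β : Ω ⟶ OX.skyObj x N := ⟨(OX.stalkHomEquiv x (DCoh.toP.obj Ω) N) (ModuleCat.ofHom 0)⟩
  have hαβ : α = β := by
    obtain ⟨γ, -, hγ⟩ := hd _ (d.postcomp β.val)
    refine (hγ α ?_).trans (hγ β rfl).symm
    refine PresheafOfModules.Derivation.ext (funext fun U => AddMonoidHom.ext fun s => funext fun hh => ?_)
    exact (Submodule.Quotient.mk_eq_zero S).2 (h U.unop hh.down s)
  have hq : q = 0 := hom_ext_sky x (congrArg (fun t : Ω ⟶ OX.skyObj x N => t.val) hαβ)
  refine eq_top_iff.2 fun z _ => ?_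
  exact (Submodule.Quotient.mk_eq_zero S).1 (LinearMap.congr_fun hq z)

/-- The stalk of a universal derivation's target is the module of algebraic differentials. -/
def stalkEquiv (hd : OmegaSh.IsUniversal d) : St x Ω ≃ₗ[X.presheaf.stalk x] Kah f x :=
  LinearEquiv.ofLinearMap (toKaehler x hd) (fromKaehler x d)
    (by
      refine Derivation.liftKaehlerDifferential_unique _ _ (Derivation.ext fun b => ?_)
      obtain ⟨U, hx, s, rfl⟩ := X.presheaf.exists_germ_eq b
      show toKaehler x hd (fromKaehler x d (KaehlerDifferential.D _ _ (X.presheaf.germ U x hx s))) =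
        KaehlerDifferential.D _ _ (X.presheaf.germ U x hx s)
      rw [fromKaehler_D, toKaehler_dg])
    (by
      have := eq_top_of_dg_mem x hd
        (LinearMap.eqLocus ((fromKaehler x d).comp (toKaehler x hd)) LinearMap.id) (fun U hx s => by
          show fromKaehler x d (toKaehler x hd (dg d U hx s)) = dg d U hx s
          rw [toKaehler_dg, fromKaehler_D])
      exact LinearMap.eqLocus_eq_top.1 this)

theorem stalkEquiv_dg (hd : OmegaSh.IsUniversal d) (U : X.Opens) (hx : x ∈ U) (s : Γ(X, U)) :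
    stalkEquiv x hd (dg d U hx s) = KaehlerDifferential.D _ _ (X.presheaf.germ U x hx s) :=
  toKaehler_dg x hd U hx s

end GrothLib.OmegaUniv
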